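import Mathlib
import Cfsg.Agent.Helper17.Fi23Ord.Lower
import Cfsg.Agent.Helper17.Fi22Ord.Simple
import Cfsg.Agent.Helper17.DoubleCover

/-! In the presented `Fi23` the subgroup `⟨a, …, i⟩` is a non-split double cover of the presented
`Fi22`: it is isomorphic to the sub-presentation `FiR1` (by counting), which maps onto `Fi22` with
kernel of order two, and it has no subgroup of index two because of the relator of odd length. -/

set_option autoImplicit false
set_option linter.all false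

noncomputable section

namespace Cfsg.Agent.Helper17.Fi23Cover

open Cfsg.Spor Cfsg.Agent.Helper17.FiSub

theorem card_R1_dvd : Nat.card FiR1TC.G ∣ 129123503308800 := by
  have h5 := Fi23Ord.card_dvd_step' Fi23Ord.phi5 FiQ3TC.Hs Fi23Ord.range5 FiQ4TC.Hs 60 _
    Fi23Ord.idxL5 Fi23Ord.card_bot
  have h4 := Fi23Ord.card_dvd_step' Fi23Ord.phi4 FiR3TC.Hs Fi23Ord.range4 FiQ3TC.Hs 432 _
    Fi23Ord.idxL4 h5
  have h3 := Fi23Ord.card_dvd_step' Fi23Ord.phi3 FiR2TC.Hs Fi23Ord.range3 FiR3TC.Hs 56 _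
    Fi23Ord.idxL3 h4
  have h2 := Fi23Ord.card_dvd_step' Fi23Ord.phi2 FiR1TC.Hs Fi23Ord.range2 FiR2TC.Hs 3159 _
    Fi23Ord.idxL2 h3
  have h1 : Nat.card FiR1TC.Hs * FiR1TC.Hs.index = Nat.card FiR1TC.G :=
    Subgroup.card_mul_index _
  rw [← h1, Fi23Ord.idxL1]
  exact (Nat.mul_dvd_mul_right h2 14080).trans (by norm_num)

theorem finR1 : Finite FiR1TC.G := by
  apply Nat.finite_of_card_ne_zero
  intro h
  have := card_R1_dvd
  rw [h] at this
  norm_num at this

theorem card_H : Nat.card Fi23TC.Hs = 129123503308800 := by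
  have h1 := Fi23Ord.card_G_eq
  rw [Fi23Ord.card_G] at h1
  omega

theorem finH : Finite Fi23TC.Hs := by
  haveI := Fi23Ord.finG
  infer_instance

/-- the surjection of the sub-presentation onto the subgroup. -/
def gH : FiR1TC.G →* Fi23TC.Hs :=
  Fi23Ord.phi1.codRestrict Fi23TC.Hs (fun x => by rw [Fi23Ord.range1]; exact ⟨x, rfl⟩)

theorem gH_surj : Function.Surjective gH := by
  rintro ⟨y, hy⟩
  have hy' : y ∈ Fi23Ord.phi1.range := Fi23Ord.range1 ▸ hy
  obtain ⟨x, hx⟩ := hy'
  exact ⟨x, Subtype.ext hx⟩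

theorem gH_bij : Function.Bijective gH := by
  haveI := finR1
  apply gH_surj.bijective_of_nat_card_le
  rw [card_H]
  exact Nat.le_of_dvd (by norm_num) card_R1_dvd

def eH : FiR1TC.G ≃* Fi23TC.Hs := MulEquiv.ofBijective gH gH_bij

/-! ### the map onto `Fi22` -/

def emb : FiR1.Gen → Fi22.Gen
  | .a => .a
  | .b => .b
  | .c => .c
  | .d => .d
  | .e => .e
  | .f => .f
  | .g => .g
  | .h => .h
  | .i => .i

def unemb : Fi22.Gen → FiR1.Gen
  | .a => .a
  | .b => .b
  | .c => .c
  | .d => .d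
  | .e => .e
  | .f => .f
  | .g => .g
  | .h => .h
  | .i => .i

theorem emb_unemb (x : Fi22.Gen) : emb (unemb x) = x := by cases x <;> rfl

def f0 (x : FiR1.Gen) : Fi22bTC.G := PresentedGroup.of (emb x)

theorem lab0 (x y : FiR1.Gen) :
    coxLabel FiR1.edges x y = coxLabel Fi22.edges (emb x) (emb y) := by
  cases x <;> cases y <;> decide

theorem rel0 : ∀ r ∈ FiR1TC.Rels, FreeGroup.lift f0 r = 1 := by
  intro r hr
  rcases hr with ⟨x, _, y, _, rfl⟩ | hr
  · rw [map_pow, map_mul, FreeGroup.lift_apply_of, FreeGroup.lift_apply_of, lab0]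
    exact Fi22bTC.cox (emb x) (emb y)
  · simp only [Set.mem_setOf_eq, FiR1.extra, List.mem_cons, List.mem_singleton, List.not_mem_nil,
      or_false] at hr
    rcases hr with rfl | rfl
    · have h := Fi22bTC.extra_one (r := (Fi22.d * Fi22.c * Fi22.b * Fi22.d * Fi22.e * Fi22.f * Fi22.d * Fi22.h * Fi22.i) ^ 10) (by simp [Fi22.extra])
      simpa [f0, emb, Fi22bTC.mk_of] using h
    · have h := Fi22bTC.extra_one (r := (Fi22.a * Fi22.b * Fi22.c * Fi22.d * Fi22.e * Fi22.f * Fi22.h) ^ 9) (by simp [Fi22.extra])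
      simpa [f0, emb, Fi22bTC.mk_of] using h

def psi0 : FiR1TC.G →* Fi22bTC.G := PresentedGroup.toGroup rel0

theorem psi0_of (x : FiR1.Gen) : psi0 (PresentedGroup.of x) = f0 x :=
  PresentedGroup.toGroup.of rel0

theorem psi0_surj : Function.Surjective psi0 := by
  rw [← MonoidHom.range_eq_top, eq_top_iff, ← PresentedGroup.closure_range_of,
    Subgroup.closure_le]
  rintro _ ⟨x, rfl⟩
  exact ⟨PresentedGroup.of (unemb x), by rw [psi0_of, f0, emb_unemb]⟩

def psi : Fi23TC.Hs →* Fi22bTC.G := psi0.comp eH.symm.toMonoidHom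

theorem psi_surj : Function.Surjective psi := psi0_surj.comp eH.symm.surjective

theorem card_ker : Nat.card psi.ker = 2 := by
  haveI := finH
  have h1 := Subgroup.card_eq_card_quotient_mul_card_subgroup psi.ker
  have h2 : Nat.card (Fi23TC.Hs ⧸ psi.ker) = Nat.card Fi22bTC.G :=
    Nat.card_congr (QuotientGroup.quotientKerEquivOfSurjective psi psi_surj).toEquiv
  rw [h2, card_H, Fi22Ord.card_G] at h1
  omega

theorem center_Fi22 : Subgroup.center Fi22bTC.G = ⊥ := by
  haveI := Fi22Ord.isSimple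
  haveI := Fi22Ord.finG
  rcases (inferInstance : (Subgroup.center Fi22bTC.G).Normal).eq_bot_or_eq_top with h | h
  · exact h
  · exfalso
    letI := Group.commGroupOfCenterEqTop h
    have hp := IsSimpleGroup.prime_card (α := Fi22bTC.G)
    rw [Fi22Ord.card_G] at hp
    norm_num at hp

/-! ### no subgroup of index two -/

theorem no_index_two (L : Subgroup Fi23TC.Hs) (hL : L.index = 2) : False := by
  haveI : L.Normal := Subgroup.normal_of_index_eq_two hL
  have hcard : Nat.card (Fi23TC.Hs ⧸ L) = 2 := by rw [← Subgroup.index_eq_card]; exact hL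
  have hQ2 : ∀ y : Fi23TC.Hs ⧸ L, y ^ 2 = 1 := by
    intro y
    have := pow_card_eq_one' (G := Fi23TC.Hs ⧸ L) (x := y)
    rwa [hcard] at this
  set q : FiR1TC.G →* Fi23TC.Hs ⧸ L := (QuotientGroup.mk' L).comp gH with hq
  have hqs : Function.Surjective q := (QuotientGroup.mk'_surjective L).comp gH_surj
  have hinv : ∀ y : Fi23TC.Hs ⧸ L, y⁻¹ = y := by
    intro y
    rw [inv_eq_iff_mul_eq_one, ← pow_two]; exact hQ2 y
  have hadj : ∀ x y : FiR1.Gen, coxLabel FiR1.edges x y = 3 →
      q (PresentedGroup.of x) = q (PresentedGroup.of y) := by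
    intro x y hxy
    have h := congrArg q (FiR1TC.cox x y)
    rw [hxy, map_pow, map_mul, map_one] at h
    have h1 := Fi22Ord.one_of_odd (hQ2 _) h (by norm_num)
    rw [mul_eq_one_iff_eq_inv, hinv] at h1
    exact h1
  have eb := hadj .a .b (by decide)
  have ec := hadj .b .c (by decide)
  have ed := hadj .c .d (by decide)
  have ee := hadj .d .e (by decide)
  have eh := hadj .d .h (by decide)
  have ef := hadj .e .f (by decide)
  have eg := hadj .f .g (by decide)
  have ei := hadj .h .i (by decide)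
  have ha1 : q (PresentedGroup.of FiR1.Gen.a) = 1 := by
    have h := congrArg q (FiR1TC.extra_one
      (r := (FiR1.a * FiR1.b * FiR1.c * FiR1.d * FiR1.e * FiR1.f * FiR1.h) ^ 9)
      (by simp [FiR1.extra]))
    simp only [map_pow, map_mul, map_one, FiR1TC.mk_of] at h
    rw [← eh, ← ef, ← ee, ← ed, ← ec, ← eb] at h
    have huu : q (PresentedGroup.of FiR1.Gen.a) * q (PresentedGroup.of FiR1.Gen.a) = 1 := by
      rw [← pow_two]; exact hQ2 _
    rw [huu, one_mul, huu, one_mul, huu, one_mul] at h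
    exact Fi22Ord.one_of_odd (hQ2 _) h (by norm_num)
  have hall : ∀ x : FiR1.Gen, q (PresentedGroup.of x) = 1 := by
    intro x
    cases x
    · exact ha1
    · rw [← eb]; exact ha1
    · rw [← ec, ← eb]; exact ha1
    · rw [← ed, ← ec, ← eb]; exact ha1
    · rw [← ee, ← ed, ← ec, ← eb]; exact ha1
    · rw [← ef, ← ee, ← ed, ← ec, ← eb]; exact ha1
    · rw [← eg, ← ef, ← ee, ← ed, ← ec, ← eb]; exact ha1
    · rw [← eh, ← ed, ← ec, ← eb]; exact ha1
    · rw [← ei, ← eh, ← ed, ← ec, ← eb]; exact ha1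
  have hq1 : q = 1 := PresentedGroup.ext (fun x => by rw [hall x]; rfl)
  have hsub : ∀ y : Fi23TC.Hs ⧸ L, y = 1 := by
    intro y
    obtain ⟨r, rfl⟩ := hqs y
    rw [hq1]; rfl
  have : Nat.card (Fi23TC.Hs ⧸ L) = 1 := by
    haveI : Subsingleton (Fi23TC.Hs ⧸ L) := ⟨fun a b => (hsub a).trans (hsub b).symm⟩
    exact Nat.card_unique
  omega

theorem nonsplit : Cfsg.IsNonsplitDoubleCover Fi23TC.Hs Fi22bTC.G :=
  DoubleCover.nonsplit_of psi psi_surj card_ker center_Fi22 no_index_two

end Cfsg.Agent.Helper17.Fi23Cover
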