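import Mathlib
import Cfsg.Agent.Helper17.Fi23Ord.Lower

/-! Simplicity of the presented group Fi23: the coset action is primitive, a nontrivial
normal subgroup has order divisible by 17, hence contains every element of order 17, and the
normal closure of one such element is everything. -/

set_option autoImplicit false
set_option linter.all false
set_option maxRecDepth 100000

noncomputable section

namespace Cfsg.Agent.Helper17.Fi23Ord

open Cfsg.Spor Cfsg.Agent.Helper17.Fi23TC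

theorem psiQ_smul (g : G) (q : Q) : psiQ (g • q) = phi g (psiQ q) := by
  unfold psiQ; rw [TCG.psi_smul]

theorem trans0 {p : ℕ} (hp : p < N) : ∃ g : G, phi g 0 = p := by
  obtain ⟨g, hg⟩ : ∃ g : G, nd p = g • n0 := by
    induction (nd p) using QuotientGroup.induction_on with
    | H g => exact ⟨g, by simp [n0, MulAction.Quotient.smul_mk]⟩
  refine ⟨g, ?_⟩
  have h1 := hpsi p hp
  rw [hg, psiQ_smul, psi_n0] at h1
  exact h1

theorem stab0 {g : G} : phi g 0 = 0 ↔ g ∈ Hs := by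
  rw [← Kof0, mem_Kof]; simp

theorem mem_of_same_image {L : Subgroup G} (hL : Hs ≤ L) {g₁ g₂ : G}
    (h : phi g₁ 0 = phi g₂ 0) (h2 : g₂ ∈ L) : g₁ ∈ L := by
  have h3 : g₂⁻¹ * g₁ ∈ Hs := by
    rw [← stab0, map_mul, map_inv, Equiv.Perm.mul_apply, h]
    simp
  have := L.mul_mem h2 (hL h3)
  simpa using this

theorem gG_mem_Hs {l : ℕ} (hl : l < nl) (hne : l ≠ 7) : gG l ∈ Hs := by
  unfold nl at hl
  interval_cases l
  · exact Subgroup.mem_map_of_mem _ (Subgroup.subset_closure (by simp : Fi23.a ∈ _))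
  · exact Subgroup.mem_map_of_mem _ (Subgroup.subset_closure (by simp : Fi23.b ∈ _))
  · exact Subgroup.mem_map_of_mem _ (Subgroup.subset_closure (by simp : Fi23.c ∈ _))
  · exact Subgroup.mem_map_of_mem _ (Subgroup.subset_closure (by simp : Fi23.d ∈ _))
  · exact Subgroup.mem_map_of_mem _ (Subgroup.subset_closure (by simp : Fi23.e ∈ _))
  · exact Subgroup.mem_map_of_mem _ (Subgroup.subset_closure (by simp : Fi23.f ∈ _))
  · exact Subgroup.mem_map_of_mem _ (Subgroup.subset_closure (by simp : Fi23.g ∈ _))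
  · exact absurd rfl hne
  · exact Subgroup.mem_map_of_mem _ (Subgroup.subset_closure (by simp : Fi23.h ∈ _))
  · exact Subgroup.mem_map_of_mem _ (Subgroup.subset_closure (by simp : Fi23.i ∈ _))


theorem hgenG : Subgroup.closure {g : G | ∃ l, l < nl ∧ g = gG l} = ⊤ := by
  rw [eq_top_iff, ← PresentedGroup.closure_range_of]
  apply Subgroup.closure_mono
  rintro _ ⟨a, rfl⟩
  exact ⟨idx a, idx_lt a, by rw [gG, gen_idx]⟩

theorem top_of_og {L : Subgroup G} (hL : Hs ≤ L) (h6 : gG 7 ∈ L) : L = ⊤ := by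
  rw [eq_top_iff, ← hgenG, Subgroup.closure_le]
  rintro _ ⟨l, hl, rfl⟩
  by_cases h : l = 7
  · subst h; exact h6
  · exact hL (gG_mem_Hs hl h)

theorem oid0 {i : ℕ} (hi : i < N) (h : oid i = 0) : i = 0 := by
  obtain ⟨g, hg, e⟩ := orb_reach 0 (odep i) i hi rfl h
  have e' : phi g 0 = i := e
  rw [hH g hg] at e'
  exact e'.symm

def chkOid : Bool := (List.range N).all fun i => decide (oid i < 3)

theorem chkOid_ok : chkOid = true := by decide +kernel

theorem oid_lt3 {i : ℕ} (hi : i < N) : oid i < 3 := by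
  have h := chkOid_ok
  simp only [chkOid, List.all_eq_true, List.mem_range, decide_eq_true_eq] at h
  exact h i hi

def wroot2 : List ℕ := [7, 6, 5, 4, 3, 2, 8, 3, 4, 5, 6, 7]

theorem wroot2_lt : ∀ l ∈ wroot2, l < nl := by decide

theorem maximal {L : Subgroup G} (hL : Hs ≤ L) {l : G} (hl : l ∈ L) (hn : l ∉ Hs) : L = ⊤ := by
  apply top_of_og hL
  have hiN : phi l 0 < N := phi_lt l N_pos
  have hi0 : phi l 0 ≠ 0 := fun h => hn (stab0.mp h)
  have h6 : phi (gG 7) 0 = 1 := by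
    rw [phi_gG (by decide), σ_apply]; decide +kernel
  have key1 : ∀ g ∈ L, oid (phi g 0) = 1 → gG 7 ∈ L := by
    intro g hg ho
    obtain ⟨h, hh, e⟩ := orb_reach 1 (odep _) (phi g 0) (phi_lt g N_pos) rfl ho
    have e' : phi h 1 = phi g 0 := e
    have h1 : phi (h * gG 7) 0 = phi g 0 := by
      rw [map_mul, Equiv.Perm.mul_apply, h6]; exact e'
    have hm : h * gG 7 ∈ L := mem_of_same_image hL h1 hg
    have := L.mul_mem (L.inv_mem (hL hh)) hm
    simpa using this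
  have hcase : oid (phi l 0) = 1 ∨ oid (phi l 0) = 2 := by
    have h3 := oid_lt3 hiN
    have h0 : oid (phi l 0) ≠ 0 := fun h => hi0 (oid0 hiN h)
    omega
  rcases hcase with h1 | h2
  · exact key1 l hl h1
  · obtain ⟨h, hh, e⟩ := orb_reach 2 (odep _) (phi l 0) hiN rfl h2
    have e' : phi h 52 = phi l 0 := e
    have hy0 : phi (prodw wroot2) 0 = 52 := by
      rw [phi_prodw_apply _ wroot2_lt]; decide +kernel
    have hyL : prodw wroot2 ∈ L := by
      have h1 : phi (h * prodw wroot2) 0 = phi l 0 := by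
        rw [map_mul, Equiv.Perm.mul_apply, hy0]; exact e'
      have hm := mem_of_same_image hL h1 hl
      have := L.mul_mem (L.inv_mem (hL hh)) hm
      simpa using this
    obtain ⟨h', hh', e2⟩ := orb_reach 2 (odep 72) 72 (by decide) rfl (by decide +kernel)
    have e2' : phi h' 52 = 72 := e2
    apply key1 (prodw wroot2 * h' * prodw wroot2) (L.mul_mem (L.mul_mem hyL (hL hh')) hyL)
    rw [map_mul, map_mul, Equiv.Perm.mul_apply, Equiv.Perm.mul_apply, hy0, e2',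
      phi_prodw_apply _ wroot2_lt]
    decide +kernel

/-! ### word calculus -/

theorem prodw_append (u v : List ℕ) : prodw (u ++ v) = prodw v * prodw u := by
  induction u with
  | nil => simp [prodw]
  | cons l u ih => simp [prodw, ih, mul_assoc]

theorem prodw_reverse (u : List ℕ) : prodw u.reverse = (prodw u)⁻¹ := by
  induction u with
  | nil => simp [prodw]
  | cons l u ih =>
    rw [List.reverse_cons, prodw_append, ih, prodw, prodw, prodw, one_mul, mul_inv_rev, gG_inv]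

theorem prodw_replicate (k : ℕ) (u : List ℕ) :
    prodw (List.replicate k u).flatten = prodw u ^ k := by
  induction k with
  | zero => simp [prodw]
  | succ k ih =>
    rw [List.replicate_succ, List.flatten_cons, prodw_append, ih, pow_succ]

theorem prodw_eq_of_chk {u v : List ℕ} (h : chkBase (u ++ v.reverse) = true) :
    prodw u = prodw v := by
  have := prodw_eq_one h
  rw [prodw_append, prodw_reverse, inv_mul_eq_one] at this
  exact this.symm

/-! ### the element of prime order -/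

def wx : List ℕ := [2, 8, 4, 2, 1, 2, 3, 1, 5, 0, 3, 5, 0, 8, 2, 5, 0, 8, 4, 3, 2, 8, 3, 7, 0, 8, 6, 4, 7, 8, 0, 2, 9, 3, 1, 5, 0, 7, 9]
def wu : List ℕ := [3, 1, 8]
def wc : List ℕ := [1, 2, 8, 0, 6, 1, 3, 1, 8, 2, 8, 4, 2, 1, 2, 3, 1, 5, 0, 3, 5, 0, 8, 2, 5, 0, 8, 4, 3, 2, 8, 3, 7, 0, 8, 6, 4, 7, 8, 0, 2, 9, 3, 1, 5, 0, 7, 9, 8, 1, 3, 2, 8, 4, 2, 1, 2, 3, 1, 5, 0, 3, 5, 0, 8, 2, 5, 0, 8, 4, 3, 2, 8, 3, 7, 0, 8, 6, 4, 7, 8, 0, 2, 9, 3, 1, 5, 0, 7, 9, 3, 1, 8, 2, 8, 4, 2, 1, 2, 3, 1, 5, 0, 3, 5, 0, 8, 2, 5, 0, 8, 4, 3, 2, 8, 3, 7, 0, 8, 6, 4, 7, 8, 0, 2, 9, 3, 1, 5, 0, 7, 9, 8, 1, 3, 2, 8, 4, 2, 1, 2, 3, 1, 5, 0, 3, 5, 0, 8, 2, 5, 0, 8, 4, 3, 2, 8, 3, 7, 0, 8, 6, 4, 7, 8, 0, 2, 9, 3, 1, 5, 0, 7, 9, 3, 1, 8, 2, 8, 4, 2, 1, 2, 3, 1, 5, 0, 3, 5, 0, 8, 2, 5, 0, 8, 4, 3, 2, 8, 3, 7, 0, 8, 6, 4, 7, 8, 0, 2, 9, 3, 1, 5, 0, 7, 9, 8, 1, 3, 2, 8, 4, 2, 1, 2, 3, 1, 5, 0, 3, 5, 0, 8, 2, 5, 0, 8, 4, 3, 2, 8, 3, 7, 0, 8, 6,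 4, 7, 8, 0, 2, 9, 3, 1, 5, 0, 7, 9, 3, 1, 8, 2, 8, 4, 2, 1, 2, 3, 1, 5, 0, 3, 5, 0, 8, 2, 5, 0, 8, 4, 3, 2, 8, 3, 7, 0, 8, 6, 4, 7, 8, 0, 2, 9, 3, 1, 5, 0, 7, 9, 8, 1, 3, 2, 8, 4, 2, 1, 2, 3, 1, 5, 0, 3, 5, 0, 8, 2, 5, 0, 8, 4, 3, 2, 8, 3, 7, 0, 8, 6, 4, 7, 8, 0, 2, 9, 3, 1, 5, 0, 7, 9, 3, 1, 8, 2, 8, 4, 2, 1, 2, 3, 1, 5, 0, 3, 5, 0, 8, 2, 5, 0, 8, 4, 3, 2, 8, 3, 7, 0, 8, 6, 4, 7, 8, 0, 2, 9, 3, 1, 5, 0, 7, 9, 8, 1, 3, 2, 8, 4, 2, 1, 2, 3, 1, 5, 0, 3, 5, 0, 8, 2, 5, 0, 8, 4, 3, 2, 8, 3, 7, 0, 8, 6, 4, 7, 8, 0, 2, 9, 3, 1, 5, 0, 7, 9, 3, 1, 8, 2, 8, 4, 2, 1, 2, 3, 1, 5, 0, 3, 5, 0, 8, 2, 5, 0, 8, 4, 3, 2, 8, 3, 7, 0, 8, 6, 4, 7, 8, 0, 2, 9, 3, 1, 5, 0, 7, 9, 8, 1, 3, 2, 8, 4, 2, 1, 2, 3, 1, 5, 0, 3, 5, 0, 8, 2, 5, 0, 8, 4, 3, 2, 8, 3, 7, 0, 8, 6, 4, 7, 8, 0, 2, 9, 3, 1, 5, 0, 7, 9, 3, 1, 8, 2, 8, 4, 2, 1, 2, 3, 1, 5, 0, 3, 5, 0, 8, 2, 5, 0, 8, 4, 3, 2, 8, 3, 7, 0, 8, 6, 4, 7, 8, 0, 2, 9, 3, 1, 5, 0, 7, 9, 8, 1,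 3, 2, 8, 4, 2, 1, 2, 3, 1, 5, 0, 3, 5, 0, 8, 2, 5, 0, 8, 4, 3, 2, 8, 3, 7, 0, 8, 6, 4, 7, 8, 0, 2, 9, 3, 1, 5, 0, 7, 9, 1, 6, 0, 8, 2, 1, 0, 1, 2, 8, 0, 6, 1]

def xG : G := prodw wx

theorem xG_pow : xG ^ 17 = 1 := by
  rw [xG, ← prodw_replicate]
  exact prodw_eq_one (by decide +kernel)

theorem xG_ne : xG ≠ 1 := by
  intro h
  have h1 : phi xG 0 = 0 := by rw [h, map_one, Equiv.Perm.one_apply]
  rw [xG, phi_prodw_apply _ (by decide)] at h1
  revert h1
  decide +kernel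

theorem orderOf_xG : orderOf xG = 17 := by
  haveI : Fact (Nat.Prime 17) := ⟨by norm_num⟩
  exact orderOf_eq_prime xG_pow xG_ne

/-- the target generator is a product of conjugates of `xG`. -/
theorem a_eq : gG 0 =
    (prodw wc)⁻¹ * (xG * ((prodw wu)⁻¹ * xG * prodw wu)) ^ 7 * prodw wc := by
  have h : prodw [0] =
      prodw (wc ++ (List.replicate 7 ((wu ++ wx ++ wu.reverse) ++ wx)).flatten ++ wc.reverse) :=
    prodw_eq_of_chk (by decide +kernel)
  rw [prodw_append, prodw_append, prodw_replicate, prodw_append, prodw_append, prodw_append,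
    prodw_reverse, prodw_reverse] at h
  rw [show prodw [0] = gG 0 by simp [prodw]] at h
  rw [h, xG]
  group

theorem a_mem_of_x_mem {M : Subgroup G} [M.Normal] (hx : xG ∈ M) : gG 0 ∈ M := by
  rw [a_eq]
  have h1 : (prodw wu)⁻¹ * xG * prodw wu ∈ M := by
    have := ‹M.Normal›.conj_mem xG hx (prodw wu)⁻¹
    simpa using this
  have h2 := M.pow_mem (M.mul_mem hx h1) 7
  have := ‹M.Normal›.conj_mem _ h2 (prodw wc)⁻¹
  simpa using this

/-! ### from `gG 0 ∈ M` to `M = ⊤` -/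

theorem one_of_odd {Γ : Type*} [Group Γ] {y : Γ} (h2 : y ^ 2 = 1) {m : ℕ} (hm : y ^ m = 1)
    (hodd : m % 2 = 1) : y = 1 := by
  have h1 : orderOf y ∣ 2 := orderOf_dvd_of_pow_eq_one h2
  have h3 : orderOf y ∣ m := orderOf_dvd_of_pow_eq_one hm
  rcases (Nat.dvd_prime Nat.prime_two).mp h1 with h | h
  · exact orderOf_eq_one_iff.mp h
  · rw [h] at h3; omega

theorem top_of_a_mem {M : Subgroup G} [M.Normal] (ha : gG 0 ∈ M) : M = ⊤ := by
  set π : G →* G ⧸ M := QuotientGroup.mk' M with hπ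
  have hker : ∀ g : G, π g = 1 → g ∈ M := fun g hg => by
    rwa [hπ, QuotientGroup.mk'_apply, QuotientGroup.eq_one_iff] at hg
  have sq : ∀ l, π (gG l) ^ 2 = 1 := by
    intro l; rw [← map_pow, pow_two, gG_mul_self, map_one]
  have p0 : π (gG 0) = 1 := by
    rw [hπ, QuotientGroup.mk'_apply, QuotientGroup.eq_one_iff]; exact ha
  have cx : ∀ i j m, coxLabel Fi23.edges (gen i) (gen j) = m → (π (gG i) * π (gG j)) ^ m = 1 := by
    intro i j m hm
    rw [← map_mul, ← map_pow, ← hm, coxG, map_one]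
  have p1 : π (gG 1) = 1 := by
    have h := cx 0 1 3 (by decide)
    rw [p0, one_mul] at h
    exact one_of_odd (sq 1) h (by norm_num)
  have p2 : π (gG 2) = 1 := by
    have h := cx 1 2 3 (by decide)
    rw [p1, one_mul] at h
    exact one_of_odd (sq 2) h (by norm_num)
  have p3 : π (gG 3) = 1 := by
    have h := cx 2 3 3 (by decide)
    rw [p2, one_mul] at h
    exact one_of_odd (sq 3) h (by norm_num)
  have p4 : π (gG 4) = 1 := by
    have h := cx 3 4 3 (by decide)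
    rw [p3, one_mul] at h
    exact one_of_odd (sq 4) h (by norm_num)
  have p8 : π (gG 8) = 1 := by
    have h := cx 3 8 3 (by decide)
    rw [p3, one_mul] at h
    exact one_of_odd (sq 8) h (by norm_num)
  have p5 : π (gG 5) = 1 := by
    have h := cx 4 5 3 (by decide)
    rw [p4, one_mul] at h
    exact one_of_odd (sq 5) h (by norm_num)
  have p6 : π (gG 6) = 1 := by
    have h := cx 5 6 3 (by decide)
    rw [p5, one_mul] at h
    exact one_of_odd (sq 6) h (by norm_num)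
  have p7 : π (gG 7) = 1 := by
    have h := cx 6 7 3 (by decide)
    rw [p6, one_mul] at h
    exact one_of_odd (sq 7) h (by norm_num)
  have p9 : π (gG 9) = 1 := by
    have h := cx 8 9 3 (by decide)
    rw [p8, one_mul] at h
    exact one_of_odd (sq 9) h (by norm_num)

  rw [eq_top_iff, ← hgenG, Subgroup.closure_le]
  rintro _ ⟨l, hl, rfl⟩
  apply hker
  unfold nl at hl
  interval_cases l
  · exact p0
  · exact p1
  · exact p2
  · exact p3
  · exact p4
  · exact p5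
  · exact p6
  · exact p7
  · exact p8
  · exact p9


/-! ### the Sylow argument -/

theorem factP : (Nat.card G).factorization 17 = 1 := by
  rw [card_G]
  have h1 : (17 : ℕ) ^ 1 ∣ 4089470473293004800 := by norm_num
  have h2 : ¬ (17 : ℕ) ^ 2 ∣ 4089470473293004800 := by norm_num
  have hp : Nat.Prime 17 := by norm_num
  rw [hp.pow_dvd_iff_le_factorization (by norm_num)] at h1 h2
  omega

theorem x_mem_of_orderP {M : Subgroup G} [M.Normal] {y : G} (hy : y ∈ M)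
    (hyP : orderOf y = 17) : xG ∈ M := by
  haveI := finG
  haveI : Fact (Nat.Prime 17) := ⟨by norm_num⟩
  have cy : Nat.card (Subgroup.zpowers y) = 17 ^ (Nat.card G).factorization 17 := by
    rw [factP, Nat.card_zpowers, hyP, pow_one]
  have cx : Nat.card (Subgroup.zpowers xG) = 17 ^ (Nat.card G).factorization 17 := by
    rw [factP, Nat.card_zpowers, orderOf_xG, pow_one]
  set Py : Sylow 17 G := Sylow.ofCard (Subgroup.zpowers y) cy with hPy
  set Px : Sylow 17 G := Sylow.ofCard (Subgroup.zpowers xG) cx with hPx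
  obtain ⟨g, hg⟩ := MulAction.exists_smul_eq G Py Px
  have hx : xG ∈ (Px : Subgroup G) := by
    rw [hPx, Sylow.coe_ofCard]; exact Subgroup.mem_zpowers xG
  rw [← hg, Sylow.coe_subgroup_smul, Subgroup.mem_pointwise_smul_iff_inv_smul_mem] at hx
  rw [hPy, Sylow.coe_ofCard] at hx
  have hM : (MulAut.conj g)⁻¹ • xG ∈ M := (Subgroup.zpowers_le.mpr hy) hx
  rw [MulAut.smul_def, MulAut.conj_inv_apply] at hM
  have := ‹M.Normal›.conj_mem _ hM g
  simpa [mul_assoc] using this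

/-! ### main theorem -/

theorem prime_dvd {M : Subgroup G} [M.Normal] (hM : M ⊔ Hs = ⊤) : 17 ∣ Nat.card M := by
  haveI := finG
  have h1 : M.index = M.relIndex Hs := by
    rw [← Subgroup.relIndex_top_right, ← hM, Subgroup.relIndex_sup_left]
  have h2 : M.relIndex Hs ∣ Nat.card Hs := Subgroup.relIndex_dvd_card _ _
  have h3 : Nat.card M * M.index = Nat.card G := Subgroup.card_mul_index M
  have h4 : M.index ∣ 129123503308800 := (h1 ▸ h2).trans card_Hs_dvd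
  have h5 : (17 : ℕ) ∣ Nat.card M * M.index := by rw [h3, card_G]; norm_num
  have hp : Nat.Prime 17 := by norm_num
  rcases hp.dvd_mul.mp h5 with h | h
  · exact h
  · exfalso
    have := h.trans h4
    norm_num at this

theorem eq_top_of_normal {M : Subgroup G} [hMn : M.Normal] (hne : M ≠ ⊥) : M = ⊤ := by
  haveI := finG
  have hnot : ¬ M ≤ Hs := by
    intro hle
    apply hne
    rw [eq_bot_iff]
    intro m hm
    rw [Subgroup.mem_bot]
    apply eq_one_of_fix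
    intro b hb
    have hbN : b < N := by
      simp only [List.mem_cons, List.not_mem_nil, or_false] at hb
      rcases hb with rfl | rfl | rfl | rfl | rfl <;> decide
    obtain ⟨g, hg⟩ := trans0 hbN
    have h1 : g⁻¹ * m * g ∈ Hs := by
      apply hle
      have := hMn.conj_mem m hm g⁻¹
      simpa using this
    rw [← stab0, map_mul, map_mul, map_inv, Equiv.Perm.mul_apply, Equiv.Perm.mul_apply, hg,
      Equiv.Perm.inv_eq_iff_eq] at h1
    rw [hg] at h1
    exact h1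
  obtain ⟨m, hm, hmn⟩ := SetLike.not_le_iff_exists.mp hnot
  have htop : M ⊔ Hs = ⊤ := maximal le_sup_right (Subgroup.mem_sup_left hm) hmn
  have hP := prime_dvd htop
  haveI : Fact (Nat.Prime 17) := ⟨by norm_num⟩
  obtain ⟨y, hy⟩ := exists_prime_orderOf_dvd_card' 17 hP
  have hy' : orderOf (y : G) = 17 := by rw [Subgroup.orderOf_coe]; exact hy
  have hx := x_mem_of_orderP y.2 hy'
  exact top_of_a_mem (a_mem_of_x_mem hx)

theorem isSimple : IsSimpleGroup G := by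
  haveI : Nontrivial G := by
    haveI := finG
    rw [← Finite.one_lt_card_iff_nontrivial, card_G]; norm_num
  exact ⟨fun M hM => by
    by_cases h : M = ⊥
    · exact Or.inl h
    · exact Or.inr (@eq_top_of_normal M hM h)⟩

end Cfsg.Agent.Helper17.Fi23Ord
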