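import Mathlib
import Cfsg.Agent.Helper17.Fi23Ord.Simple
import Cfsg.Agent.Helper17.Fi23Ord.Cover

/-! The presented `Fi23` as a 3-transposition group: the central involution `z = (bcdefgh)^9` of
`H = ⟨a, …, i⟩` has centraliser `H`, its class has 31671 members, any two of which have product
of order at most 3, and every centraliser is a non-split double cover of `Fi22`. -/

set_option autoImplicit false
set_option linter.all false
set_option maxRecDepth 100000

noncomputable section

namespace Cfsg.Agent.Helper17.Fi23Trans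

open Cfsg.Spor Cfsg.Agent.Helper17.Fi23TC Cfsg.Agent.Helper17.Fi23Ord

def wz : List ℕ := (List.replicate 9 [1, 2, 3, 4, 5, 6, 8]).flatten

def zG : G := prodw wz

theorem wz_lt : ∀ l ∈ wz, l < nl := by decide

theorem zG_sq : zG * zG = 1 := by
  have h : prodw (wz ++ wz) = 1 := prodw_eq_one (by decide +kernel)
  rwa [prodw_append] at h

theorem zG_inv : zG⁻¹ = zG := by
  rw [inv_eq_iff_mul_eq_one]; exact zG_sq

theorem zG_ne : zG ≠ 1 := by
  intro h
  have h1 : phi zG 1 = 1 := by rw [h, MonoidHom.map_one phi, Equiv.Perm.one_apply]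
  rw [zG, phi_prodw_apply _ wz_lt] at h1
  revert h1
  decide +kernel

theorem orderOf_zG : orderOf zG = 2 := by
  haveI : Fact (Nat.Prime 2) := ⟨Nat.prime_two⟩
  exact orderOf_eq_prime (by rw [pow_two]; exact zG_sq) zG_ne

theorem zG_comm {l : ℕ} (hl : l < nl) (h7 : l ≠ 7) : zG * gG l = gG l * zG := by
  have key : ∀ l : ℕ, chkBase (([l] ++ wz) ++ (wz ++ [l]).reverse) = true →
      zG * gG l = gG l * zG := by
    intro l h
    have h1 := prodw_eq_of_chk h
    rw [prodw_append, prodw_append] at h1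
    simpa [prodw, zG] using h1
  unfold nl at hl
  interval_cases l
  · exact key _ (by decide +kernel)
  · exact key _ (by decide +kernel)
  · exact key _ (by decide +kernel)
  · exact key _ (by decide +kernel)
  · exact key _ (by decide +kernel)
  · exact key _ (by decide +kernel)
  · exact key _ (by decide +kernel)
  · exact absurd rfl h7
  · exact key _ (by decide +kernel)
  · exact key _ (by decide +kernel)

theorem zG_not_comm : zG * gG 7 ≠ gG 7 * zG := by
  intro h
  have h1 : phi (prodw ([7] ++ wz)) 0 = phi (prodw (wz ++ [7])) 0 := by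
    rw [prodw_append, prodw_append]
    have e : prodw [7] = gG 7 := by simp [prodw]
    rw [e]
    exact congrArg (fun g => phi g 0) h
  rw [phi_prodw_apply _ (by decide), phi_prodw_apply _ (by decide)] at h1
  revert h1
  decide +kernel

theorem Hs_le_cent : Hs ≤ Subgroup.centralizer {zG} := by
  rw [Hs_eq, MonoidHom.map_closure, Subgroup.closure_le]
  rintro _ ⟨s, hs, rfl⟩
  rw [SetLike.mem_coe, Subgroup.mem_centralizer_iff]
  intro h hh
  rw [Set.mem_singleton_iff] at hh
  subst hh
  revert s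
  apply subgen_cases
  · exact zG_comm (l := 0) (by decide) (by decide)
  · exact zG_comm (l := 1) (by decide) (by decide)
  · exact zG_comm (l := 2) (by decide) (by decide)
  · exact zG_comm (l := 3) (by decide) (by decide)
  · exact zG_comm (l := 4) (by decide) (by decide)
  · exact zG_comm (l := 5) (by decide) (by decide)
  · exact zG_comm (l := 6) (by decide) (by decide)
  · exact zG_comm (l := 8) (by decide) (by decide)
  · exact zG_comm (l := 9) (by decide) (by decide)

theorem cent_eq : Subgroup.centralizer {zG} = Hs := by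
  by_contra hne
  have hlt : Hs < Subgroup.centralizer {zG} := lt_of_le_of_ne Hs_le_cent (Ne.symm hne)
  obtain ⟨l, hl, hn⟩ := SetLike.exists_of_lt hlt
  have htop := maximal Hs_le_cent hl hn
  have h7 : gG 7 ∈ Subgroup.centralizer {zG} := by rw [htop]; exact Subgroup.mem_top _
  rw [Subgroup.mem_centralizer_iff] at h7
  exact zG_not_comm (h7 zG rfl)

theorem zG_mem : zG ∈ Hs := by
  rw [← cent_eq, Subgroup.mem_centralizer_iff]
  intro h hh
  rw [Set.mem_singleton_iff] at hh
  rw [hh]

/-- the class of 3-transpositions. -/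
def D : Set G := conjugatesOf zG

theorem card_D : Nat.card D = 31671 := by
  rw [D, DoubleCover.card_conjugatesOf, cent_eq]
  exact idxTop

theorem closure_D : Subgroup.closure D = ⊤ := by
  haveI := isSimple
  exact DoubleCover.closure_conjugatesOf_eq_top zG_ne

theorem mem_D {d : G} : d ∈ D ↔ ∃ c : G, c * zG * c⁻¹ = d := by
  show IsConj zG d ↔ _
  rw [isConj_iff]

theorem orderOf_D {d : G} (hd : d ∈ D) : orderOf d = 2 := by
  obtain ⟨c, rfl⟩ := mem_D.mp hd
  have : c * zG * c⁻¹ = MulAut.conj c zG := by simp [MulAut.conj_apply]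
  rw [this, MulEquiv.orderOf_eq]
  exact orderOf_zG

/-! ### products of two transpositions -/

def w1 : List ℕ := [7]
def w2 : List ℕ := [7, 6, 5, 4, 3, 2, 8, 3, 4, 5, 6, 7]

theorem pair_rel (w : List ℕ) (hw : ∀ l ∈ w, l < nl) (k : ℕ)
    (h : chkBase (List.replicate k (w.reverse ++ wz ++ w ++ wz)).flatten = true) :
    (zG * (prodw w * zG * (prodw w)⁻¹)) ^ k = 1 := by
  have h1 := prodw_eq_one h
  rw [prodw_replicate, prodw_append, prodw_append, prodw_append, prodw_reverse] at h1
  rw [← h1, zG]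
  simp only [mul_assoc]

theorem pair_of_coset (w : List ℕ) (hw : ∀ l ∈ w, l < nl) (k : ℕ)
    (hk : (zG * (prodw w * zG * (prodw w)⁻¹)) ^ k = 1) (g : G)
    (hg : ∃ h ∈ Hs, phi h (evalw w 0) = phi g 0) : (zG * (g * zG * g⁻¹)) ^ k = 1 := by
  obtain ⟨h, hh, e⟩ := hg
  have h1 : phi (h * prodw w) 0 = phi g 0 := by
    rw [map_mul, Equiv.Perm.mul_apply, phi_prodw_apply _ hw]; exact e
  have h2 : (h * prodw w)⁻¹ * g ∈ Hs := by
    rw [← stab0, map_mul, map_inv, Equiv.Perm.mul_apply, ← h1]
    simp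
  set h' := (h * prodw w)⁻¹ * g with hh'
  have hg' : g = h * prodw w * h' := by rw [hh']; group
  have c1 : zG * h = h * zG := by
    have := Subgroup.mem_centralizer_iff.mp (Hs_le_cent hh) zG rfl
    exact this
  have c2 : zG * h' = h' * zG := by
    have := Subgroup.mem_centralizer_iff.mp (Hs_le_cent h2) zG rfl
    exact this
  have c1' : zG * h⁻¹ = h⁻¹ * zG := by
    have : h⁻¹ * (zG * h) * h⁻¹ = h⁻¹ * (h * zG) * h⁻¹ := by rw [c1]
    simp only [mul_assoc, mul_inv_cancel, mul_one, inv_mul_cancel_left] at this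
    exact this.symm
  have key : zG * (g * zG * g⁻¹) = h * (zG * (prodw w * zG * (prodw w)⁻¹)) * h⁻¹ := by
    have e1 : h' * zG * h'⁻¹ = zG := by rw [← c2]; group
    calc zG * (g * zG * g⁻¹)
        = zG * (h * prodw w * (h' * zG * h'⁻¹) * (prodw w)⁻¹ * h⁻¹) := by rw [hg']; group
      _ = zG * h * (prodw w * zG * (prodw w)⁻¹) * h⁻¹ := by rw [e1]; group
      _ = h * (zG * (prodw w * zG * (prodw w)⁻¹)) * h⁻¹ := by rw [c1]; group
  rw [key, conj_pow, hk]
  group

theorem pair_zG (g : G) : (zG * (g * zG * g⁻¹)) ^ 2 = 1 ∨ (zG * (g * zG * g⁻¹)) ^ 3 = 1 := by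
  have hiN : phi g 0 < N := phi_lt g N_pos
  have hcase : oid (phi g 0) = 0 ∨ oid (phi g 0) = 1 ∨ oid (phi g 0) = 2 := by
    have := oid_lt3 hiN
    omega
  rcases hcase with h0 | h1 | h2
  · left
    have hg : g ∈ Hs := stab0.mp (oid0 hiN h0)
    have c : zG * g = g * zG := Subgroup.mem_centralizer_iff.mp (Hs_le_cent hg) zG rfl
    have : g * zG * g⁻¹ = zG := by rw [← c]; group
    rw [this, zG_sq, one_pow]
  · right
    apply pair_of_coset w1 (by decide) 3 (pair_rel w1 (by decide) 3 (by decide +kernel)) g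
    obtain ⟨h, hh, e⟩ := orb_reach 1 (odep _) (phi g 0) hiN rfl h1
    refine ⟨h, hh, ?_⟩
    have e0 : evalw w1 0 = oroot 1 := by decide +kernel
    rw [e0]; exact e
  · left
    apply pair_of_coset w2 (by decide) 2 (pair_rel w2 (by decide) 2 (by decide +kernel)) g
    obtain ⟨h, hh, e⟩ := orb_reach 2 (odep _) (phi g 0) hiN rfl h2
    refine ⟨h, hh, ?_⟩
    have e0 : evalw w2 0 = oroot 2 := by decide +kernel
    rw [e0]; exact e

theorem pair_D {d e : G} (hd : d ∈ D) (he : e ∈ D) : (d * e) ^ 2 = 1 ∨ (d * e) ^ 3 = 1 := by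
  obtain ⟨c₁, rfl⟩ := mem_D.mp hd
  obtain ⟨c₂, rfl⟩ := mem_D.mp he
  have key : c₁ * zG * c₁⁻¹ * (c₂ * zG * c₂⁻¹) =
      c₁ * (zG * ((c₁⁻¹ * c₂) * zG * (c₁⁻¹ * c₂)⁻¹)) * c₁⁻¹ := by group
  rw [key, conj_pow, conj_pow]
  rcases pair_zG (c₁⁻¹ * c₂) with h | h
  · left; rw [h]; group
  · right; rw [h]; group

theorem isClass : Cfsg.IsThreeTranspositionClass D :=
  ⟨⟨fun d hd => orderOf_D hd, fun d hd e he => pair_D hd he⟩,
    ⟨zG, mem_D.mpr ⟨1, by simp⟩, rfl⟩, closure_D⟩

/-! ### the centralisers -/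

def conjEquiv (c : G) : Subgroup.centralizer {c * zG * c⁻¹} ≃* Hs where
  toFun x := ⟨c⁻¹ * x.1 * c, by
    rw [← cent_eq, Subgroup.mem_centralizer_iff]
    intro h hh
    rw [Set.mem_singleton_iff] at hh
    subst hh
    have hx := Subgroup.mem_centralizer_iff.mp x.2 _ rfl
    calc zG * (c⁻¹ * x.1 * c) = c⁻¹ * ((c * zG * c⁻¹) * x.1) * c := by group
      _ = c⁻¹ * (x.1 * (c * zG * c⁻¹)) * c := by rw [hx]
      _ = c⁻¹ * x.1 * c * zG := by group⟩
  invFun y := ⟨c * y.1 * c⁻¹, by
    rw [Subgroup.mem_centralizer_iff]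
    intro h hh
    rw [Set.mem_singleton_iff] at hh
    subst hh
    have hy := Subgroup.mem_centralizer_iff.mp (Hs_le_cent y.2) zG rfl
    calc c * zG * c⁻¹ * (c * y.1 * c⁻¹) = c * (zG * y.1) * c⁻¹ := by group
      _ = c * (y.1 * zG) * c⁻¹ := by rw [hy]
      _ = c * y.1 * c⁻¹ * (c * zG * c⁻¹) := by group⟩
  left_inv x := Subtype.ext (by simp [mul_assoc])
  right_inv y := Subtype.ext (by simp [mul_assoc])
  map_mul' x y := Subtype.ext (by simp [mul_assoc])

theorem cover_D {d : G} (hd : d ∈ D) :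
    Cfsg.IsNonsplitDoubleCover (Subgroup.centralizer ({d} : Set G)) Fi22bTC.G := by
  obtain ⟨c, rfl⟩ := mem_D.mp hd
  haveI := finG
  have hs : Function.Surjective (Fi23Cover.psi.comp (conjEquiv c).toMonoidHom) :=
    Fi23Cover.psi_surj.comp (conjEquiv c).surjective
  refine DoubleCover.nonsplit_of _ hs ?_ Fi23Cover.center_Fi22 ?_
  · apply DoubleCover.card_ker_two _ hs
    · rw [Nat.card_congr (conjEquiv c).toEquiv, Fi23Cover.card_H, Fi22Ord.card_G]
    · rw [Fi22Ord.card_G]; norm_num
  · intro L hL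
    apply Fi23Cover.no_index_two (L.comap (conjEquiv c).symm.toMonoidHom)
    rw [Subgroup.index_comap_of_surjective _ (conjEquiv c).symm.surjective]
    exact hL

end Cfsg.Agent.Helper17.Fi23Trans
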