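import Mathlib
import Cfsg.Agent.Helper17.Fi23TC.Orb
import Cfsg.Agent.Helper17.FiR1TC.Perm
import Cfsg.Agent.Helper17.FiR2TC.Perm
import Cfsg.Agent.Helper17.FiR3TC.Perm
import Cfsg.Agent.Helper17.FiQ3TC.Perm
import Cfsg.Agent.Helper17.FiQ4TC.Perm

set_option autoImplicit false
set_option linter.all false

noncomputable section

namespace Cfsg.Agent.Helper17.Fi23Ord

open Cfsg.Spor Cfsg.Agent.Helper17.FiSub

theorem card_dvd_step' {P G : Type*} [Group P] [Group G] (φ : P →* G) (H : Subgroup G)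
    (hH : H = φ.range) (K : Subgroup P) (n m : ℕ) (hidx : K.index = n) (hK : Nat.card K ∣ m) :
    Nat.card H ∣ n * m := by
  subst hH
  have h1 : Nat.card φ.range ∣ Nat.card P := Subgroup.card_range_dvd φ
  have h2 : Nat.card K * K.index = Nat.card P := Subgroup.card_mul_index K
  rw [← h2, hidx, mul_comm] at h1
  exact h1.trans (Nat.mul_dvd_mul_left n hK)

/-! ### level 1 : FiR1 → Fi23 -/

def emb1 : FiR1.Gen → Fi23.Gen
  | .a => .a
  | .b => .b
  | .c => .c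
  | .d => .d
  | .e => .e
  | .f => .f
  | .g => .g
  | .h => .h
  | .i => .i

def f1 (x : FiR1.Gen) : Fi23TC.G := PresentedGroup.of (emb1 x)

theorem lab1 (x y : FiR1.Gen) :
    coxLabel FiR1.edges x y = coxLabel Fi23.edges (emb1 x) (emb1 y) := by
  cases x <;> cases y <;> decide

theorem rel1 : ∀ r ∈ FiR1TC.Rels, FreeGroup.lift f1 r = 1 := by
  intro r hr
  rcases hr with ⟨x, _, y, _, rfl⟩ | hr
  · rw [map_pow, map_mul, FreeGroup.lift_apply_of, FreeGroup.lift_apply_of, lab1]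
    exact Fi23TC.cox (emb1 x) (emb1 y)
  · simp only [Set.mem_setOf_eq, FiR1.extra, List.mem_cons, List.mem_singleton, List.not_mem_nil,
      or_false] at hr
    rcases hr with rfl | rfl
    · have h := Fi23TC.extra_one (r := (Fi23.d * Fi23.c * Fi23.b * Fi23.d * Fi23.e * Fi23.f * Fi23.d * Fi23.h * Fi23.i) ^ 10) (by simp [Fi23.extra])
      simpa [f1, emb1, Fi23TC.mk_of] using h
    · have h := Fi23TC.extra_one (r := (Fi23.a * Fi23.b * Fi23.c * Fi23.d * Fi23.e * Fi23.f * Fi23.h) ^ 9) (by simp [Fi23.extra])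
      simpa [f1, emb1, Fi23TC.mk_of] using h

def phi1 : FiR1TC.G →* Fi23TC.G := PresentedGroup.toGroup rel1

theorem phi1_of (x : FiR1.Gen) : phi1 (PresentedGroup.of x) = f1 x :=
  PresentedGroup.toGroup.of rel1

theorem range1 : Fi23TC.Hs = phi1.range := by
  have h1 : phi1.range = Subgroup.closure (Set.range f1) := by
    rw [MonoidHom.range_eq_map, ← PresentedGroup.closure_range_of, MonoidHom.map_closure]
    congr 1
    ext g
    constructor
    · rintro ⟨_, ⟨x, rfl⟩, rfl⟩; exact ⟨x, (phi1_of x).symm⟩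
    · rintro ⟨x, rfl⟩; exact ⟨_, ⟨x, rfl⟩, phi1_of x⟩
  rw [h1, Fi23TC.Hs, MonoidHom.map_closure]
  congr 1
  ext g
  constructor
  · rintro ⟨s, hs, rfl⟩
    simp only [Set.mem_insert_iff, Set.mem_singleton_iff] at hs
    rcases hs with rfl | rfl | rfl | rfl | rfl | rfl | rfl | rfl | rfl
    · exact ⟨.a, rfl⟩
    · exact ⟨.b, rfl⟩
    · exact ⟨.c, rfl⟩
    · exact ⟨.d, rfl⟩
    · exact ⟨.e, rfl⟩
    · exact ⟨.f, rfl⟩
    · exact ⟨.g, rfl⟩
    · exact ⟨.h, rfl⟩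
    · exact ⟨.i, rfl⟩
  · rintro ⟨x, rfl⟩
    cases x
    · exact ⟨Fi23.a, by simp, rfl⟩
    · exact ⟨Fi23.b, by simp, rfl⟩
    · exact ⟨Fi23.c, by simp, rfl⟩
    · exact ⟨Fi23.d, by simp, rfl⟩
    · exact ⟨Fi23.e, by simp, rfl⟩
    · exact ⟨Fi23.f, by simp, rfl⟩
    · exact ⟨Fi23.g, by simp, rfl⟩
    · exact ⟨Fi23.h, by simp, rfl⟩
    · exact ⟨Fi23.i, by simp, rfl⟩

/-! ### level 2 : FiR2 → FiR1 -/

def emb2 : FiR2.Gen → FiR1.Gen
  | .b => .b
  | .c => .c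
  | .d => .d
  | .e => .e
  | .f => .f
  | .g => .g
  | .h => .h
  | .i => .i

def f2 (x : FiR2.Gen) : FiR1TC.G := PresentedGroup.of (emb2 x)

theorem lab2 (x y : FiR2.Gen) :
    coxLabel FiR2.edges x y = coxLabel FiR1.edges (emb2 x) (emb2 y) := by
  cases x <;> cases y <;> decide

theorem rel2 : ∀ r ∈ FiR2TC.Rels, FreeGroup.lift f2 r = 1 := by
  intro r hr
  rcases hr with ⟨x, _, y, _, rfl⟩ | hr
  · rw [map_pow, map_mul, FreeGroup.lift_apply_of, FreeGroup.lift_apply_of, lab2]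
    exact FiR1TC.cox (emb2 x) (emb2 y)
  · simp only [Set.mem_setOf_eq, FiR2.extra, List.mem_cons, List.mem_singleton, List.not_mem_nil,
      or_false] at hr
    rcases hr with rfl
    · have h := FiR1TC.extra_one (r := (FiR1.d * FiR1.c * FiR1.b * FiR1.d * FiR1.e * FiR1.f * FiR1.d * FiR1.h * FiR1.i) ^ 10) (by simp [FiR1.extra])
      simpa [f2, emb2, FiR1TC.mk_of] using h

def phi2 : FiR2TC.G →* FiR1TC.G := PresentedGroup.toGroup rel2

theorem phi2_of (x : FiR2.Gen) : phi2 (PresentedGroup.of x) = f2 x :=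
  PresentedGroup.toGroup.of rel2

theorem range2 : FiR1TC.Hs = phi2.range := by
  have h1 : phi2.range = Subgroup.closure (Set.range f2) := by
    rw [MonoidHom.range_eq_map, ← PresentedGroup.closure_range_of, MonoidHom.map_closure]
    congr 1
    ext g
    constructor
    · rintro ⟨_, ⟨x, rfl⟩, rfl⟩; exact ⟨x, (phi2_of x).symm⟩
    · rintro ⟨x, rfl⟩; exact ⟨_, ⟨x, rfl⟩, phi2_of x⟩
  rw [h1, FiR1TC.Hs, MonoidHom.map_closure]
  congr 1
  ext g
  constructor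
  · rintro ⟨s, hs, rfl⟩
    simp only [Set.mem_insert_iff, Set.mem_singleton_iff] at hs
    rcases hs with rfl | rfl | rfl | rfl | rfl | rfl | rfl | rfl
    · exact ⟨.b, rfl⟩
    · exact ⟨.c, rfl⟩
    · exact ⟨.d, rfl⟩
    · exact ⟨.e, rfl⟩
    · exact ⟨.f, rfl⟩
    · exact ⟨.g, rfl⟩
    · exact ⟨.h, rfl⟩
    · exact ⟨.i, rfl⟩
  · rintro ⟨x, rfl⟩
    cases x
    · exact ⟨FiR1.b, by simp, rfl⟩
    · exact ⟨FiR1.c, by simp, rfl⟩
    · exact ⟨FiR1.d, by simp, rfl⟩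
    · exact ⟨FiR1.e, by simp, rfl⟩
    · exact ⟨FiR1.f, by simp, rfl⟩
    · exact ⟨FiR1.g, by simp, rfl⟩
    · exact ⟨FiR1.h, by simp, rfl⟩
    · exact ⟨FiR1.i, by simp, rfl⟩

/-! ### level 3 : FiR3 → FiR2 -/

def emb3 : FiR3.Gen → FiR2.Gen
  | .b => .b
  | .c => .c
  | .d => .d
  | .e => .e
  | .f => .f
  | .g => .g
  | .h => .h

def f3 (x : FiR3.Gen) : FiR2TC.G := PresentedGroup.of (emb3 x)

theorem lab3 (x y : FiR3.Gen) :
    coxLabel FiR3.edges x y = coxLabel FiR2.edges (emb3 x) (emb3 y) := by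
  cases x <;> cases y <;> decide

theorem rel3 : ∀ r ∈ FiR3TC.Rels, FreeGroup.lift f3 r = 1 := by
  intro r hr
  rcases hr with ⟨x, _, y, _, rfl⟩ | hr
  · rw [map_pow, map_mul, FreeGroup.lift_apply_of, FreeGroup.lift_apply_of, lab3]
    exact FiR2TC.cox (emb3 x) (emb3 y)
  · simp [FiR3.extra] at hr

def phi3 : FiR3TC.G →* FiR2TC.G := PresentedGroup.toGroup rel3

theorem phi3_of (x : FiR3.Gen) : phi3 (PresentedGroup.of x) = f3 x :=
  PresentedGroup.toGroup.of rel3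

theorem range3 : FiR2TC.Hs = phi3.range := by
  have h1 : phi3.range = Subgroup.closure (Set.range f3) := by
    rw [MonoidHom.range_eq_map, ← PresentedGroup.closure_range_of, MonoidHom.map_closure]
    congr 1
    ext g
    constructor
    · rintro ⟨_, ⟨x, rfl⟩, rfl⟩; exact ⟨x, (phi3_of x).symm⟩
    · rintro ⟨x, rfl⟩; exact ⟨_, ⟨x, rfl⟩, phi3_of x⟩
  rw [h1, FiR2TC.Hs, MonoidHom.map_closure]
  congr 1
  ext g
  constructor
  · rintro ⟨s, hs, rfl⟩
    simp only [Set.mem_insert_iff, Set.mem_singleton_iff] at hs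
    rcases hs with rfl | rfl | rfl | rfl | rfl | rfl | rfl
    · exact ⟨.b, rfl⟩
    · exact ⟨.c, rfl⟩
    · exact ⟨.d, rfl⟩
    · exact ⟨.e, rfl⟩
    · exact ⟨.f, rfl⟩
    · exact ⟨.g, rfl⟩
    · exact ⟨.h, rfl⟩
  · rintro ⟨x, rfl⟩
    cases x
    · exact ⟨FiR2.b, by simp, rfl⟩
    · exact ⟨FiR2.c, by simp, rfl⟩
    · exact ⟨FiR2.d, by simp, rfl⟩
    · exact ⟨FiR2.e, by simp, rfl⟩
    · exact ⟨FiR2.f, by simp, rfl⟩
    · exact ⟨FiR2.g, by simp, rfl⟩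
    · exact ⟨FiR2.h, by simp, rfl⟩

/-! ### level 4 : FiQ3 → FiR3 -/

def emb4 : FiQ3.Gen → FiR3.Gen
  | .b => .b
  | .c => .c
  | .d => .d
  | .e => .e
  | .f => .f
  | .h => .h

def f4 (x : FiQ3.Gen) : FiR3TC.G := PresentedGroup.of (emb4 x)

theorem lab4 (x y : FiQ3.Gen) :
    coxLabel FiQ3.edges x y = coxLabel FiR3.edges (emb4 x) (emb4 y) := by
  cases x <;> cases y <;> decide

theorem rel4 : ∀ r ∈ FiQ3TC.Rels, FreeGroup.lift f4 r = 1 := by
  intro r hr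
  rcases hr with ⟨x, _, y, _, rfl⟩ | hr
  · rw [map_pow, map_mul, FreeGroup.lift_apply_of, FreeGroup.lift_apply_of, lab4]
    exact FiR3TC.cox (emb4 x) (emb4 y)
  · simp [FiQ3.extra] at hr

def phi4 : FiQ3TC.G →* FiR3TC.G := PresentedGroup.toGroup rel4

theorem phi4_of (x : FiQ3.Gen) : phi4 (PresentedGroup.of x) = f4 x :=
  PresentedGroup.toGroup.of rel4

theorem range4 : FiR3TC.Hs = phi4.range := by
  have h1 : phi4.range = Subgroup.closure (Set.range f4) := by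
    rw [MonoidHom.range_eq_map, ← PresentedGroup.closure_range_of, MonoidHom.map_closure]
    congr 1
    ext g
    constructor
    · rintro ⟨_, ⟨x, rfl⟩, rfl⟩; exact ⟨x, (phi4_of x).symm⟩
    · rintro ⟨x, rfl⟩; exact ⟨_, ⟨x, rfl⟩, phi4_of x⟩
  rw [h1, FiR3TC.Hs, MonoidHom.map_closure]
  congr 1
  ext g
  constructor
  · rintro ⟨s, hs, rfl⟩
    simp only [Set.mem_insert_iff, Set.mem_singleton_iff] at hs
    rcases hs with rfl | rfl | rfl | rfl | rfl | rfl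
    · exact ⟨.b, rfl⟩
    · exact ⟨.c, rfl⟩
    · exact ⟨.d, rfl⟩
    · exact ⟨.e, rfl⟩
    · exact ⟨.f, rfl⟩
    · exact ⟨.h, rfl⟩
  · rintro ⟨x, rfl⟩
    cases x
    · exact ⟨FiR3.b, by simp, rfl⟩
    · exact ⟨FiR3.c, by simp, rfl⟩
    · exact ⟨FiR3.d, by simp, rfl⟩
    · exact ⟨FiR3.e, by simp, rfl⟩
    · exact ⟨FiR3.f, by simp, rfl⟩
    · exact ⟨FiR3.h, by simp, rfl⟩

/-! ### level 5 : FiQ4 → FiQ3 -/

def emb5 : FiQ4.Gen → FiQ3.Gen
  | .c => .c
  | .d => .d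
  | .e => .e
  | .f => .f

def f5 (x : FiQ4.Gen) : FiQ3TC.G := PresentedGroup.of (emb5 x)

theorem lab5 (x y : FiQ4.Gen) :
    coxLabel FiQ4.edges x y = coxLabel FiQ3.edges (emb5 x) (emb5 y) := by
  cases x <;> cases y <;> decide

theorem rel5 : ∀ r ∈ FiQ4TC.Rels, FreeGroup.lift f5 r = 1 := by
  intro r hr
  rcases hr with ⟨x, _, y, _, rfl⟩ | hr
  · rw [map_pow, map_mul, FreeGroup.lift_apply_of, FreeGroup.lift_apply_of, lab5]
    exact FiQ3TC.cox (emb5 x) (emb5 y)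
  · simp [FiQ4.extra] at hr

def phi5 : FiQ4TC.G →* FiQ3TC.G := PresentedGroup.toGroup rel5

theorem phi5_of (x : FiQ4.Gen) : phi5 (PresentedGroup.of x) = f5 x :=
  PresentedGroup.toGroup.of rel5

theorem range5 : FiQ3TC.Hs = phi5.range := by
  have h1 : phi5.range = Subgroup.closure (Set.range f5) := by
    rw [MonoidHom.range_eq_map, ← PresentedGroup.closure_range_of, MonoidHom.map_closure]
    congr 1
    ext g
    constructor
    · rintro ⟨_, ⟨x, rfl⟩, rfl⟩; exact ⟨x, (phi5_of x).symm⟩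
    · rintro ⟨x, rfl⟩; exact ⟨_, ⟨x, rfl⟩, phi5_of x⟩
  rw [h1, FiQ3TC.Hs, MonoidHom.map_closure]
  congr 1
  ext g
  constructor
  · rintro ⟨s, hs, rfl⟩
    simp only [Set.mem_insert_iff, Set.mem_singleton_iff] at hs
    rcases hs with rfl | rfl | rfl | rfl
    · exact ⟨.c, rfl⟩
    · exact ⟨.d, rfl⟩
    · exact ⟨.e, rfl⟩
    · exact ⟨.f, rfl⟩
  · rintro ⟨x, rfl⟩
    cases x
    · exact ⟨FiQ3.c, by simp, rfl⟩
    · exact ⟨FiQ3.d, by simp, rfl⟩
    · exact ⟨FiQ3.e, by simp, rfl⟩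
    · exact ⟨FiQ3.f, by simp, rfl⟩

/-! ### bottom -/

theorem card_bot : Nat.card FiQ4TC.Hs ∣ 2 := by
  have h : FiQ4TC.Hs = Subgroup.zpowers (FiQ4TC.gG 0) := by
    rw [FiQ4TC.Hs, MonoidHom.map_closure, Set.image_singleton, Subgroup.zpowers_eq_closure]
    rfl
  rw [h, Nat.card_zpowers]
  apply orderOf_dvd_of_pow_eq_one
  rw [pow_two]
  exact FiQ4TC.gG_mul_self 0

theorem idxL1 : FiR1TC.Hs.index = 14080 := by
  rw [Subgroup.index_eq_card]; exact FiR1TC.card_Q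

theorem idxL2 : FiR2TC.Hs.index = 3159 := by
  rw [Subgroup.index_eq_card]; exact FiR2TC.card_Q

theorem idxL3 : FiR3TC.Hs.index = 56 := by
  rw [Subgroup.index_eq_card]; exact FiR3TC.card_Q

theorem idxL4 : FiQ3TC.Hs.index = 432 := by
  rw [Subgroup.index_eq_card]; exact FiQ3TC.card_Q

theorem idxL5 : FiQ4TC.Hs.index = 60 := by
  rw [Subgroup.index_eq_card]; exact FiQ4TC.card_Q

theorem idxTop : Fi23TC.Hs.index = 31671 := by
  rw [Subgroup.index_eq_card]; exact Fi23TC.card_Q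

theorem card_Hs_dvd : Nat.card Fi23TC.Hs ∣ 129123503308800 := by
  have h5 := card_dvd_step' phi5 FiQ3TC.Hs range5 FiQ4TC.Hs 60 _ idxL5 card_bot
  have h4 := card_dvd_step' phi4 FiR3TC.Hs range4 FiQ3TC.Hs 432 _ idxL4 h5
  have h3 := card_dvd_step' phi3 FiR2TC.Hs range3 FiR3TC.Hs 56 _ idxL3 h4
  have h2 := card_dvd_step' phi2 FiR1TC.Hs range2 FiR2TC.Hs 3159 _ idxL2 h3
  have h1 := card_dvd_step' phi1 Fi23TC.Hs range1 FiR1TC.Hs 14080 _ idxL1 h2
  exact h1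

theorem card_G_eq : Nat.card Fi23TC.G = Nat.card Fi23TC.Hs * 31671 := by
  rw [← idxTop, Subgroup.card_mul_index]

theorem card_G_dvd : Nat.card Fi23TC.G ∣ 4089470473293004800 := by
  rw [card_G_eq]
  exact (Nat.mul_dvd_mul_right card_Hs_dvd 31671).trans (by norm_num)

end Cfsg.Agent.Helper17.Fi23Ord
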